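import Mathlib
import Cfsg.Prelude.Def_FusionComponents
import Cfsg.Agent.Lead.Fusion
import Cfsg.Agent.Lead.FusionConj
import Cfsg.Agent.Lead.FusionWeak
import Cfsg.Agent.Lead.FusionSat2
import Cfsg.Agent.Lead.PStabCR
import Cfsg.Agent.OLV.ELe

/-!
S5155 (`notes/S5155_lead.md`), piece P1 (helper2): exact extension of maps of `F` defined on subgroups of
`C_S(T)` to `P ⊔ T`, and extension of automorphisms of a strongly closed subgroup over its centralizer.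
-/

set_option autoImplicit false

namespace Cfsg.Agent.CFE

open Cfsg Cfsg.FusionSystem Cfsg.Agent.Lead

variable {Ω : Type*} [Group Ω] {S : Subgroup Ω}

/-- `T ≤ C_S(P)` when `P ≤ C_S(T)` and `T ≤ S`. -/
theorem cfe_exactExt_le_centralizerIn {T P : Subgroup Ω} (hTS : T ≤ S)
    (hP : P ≤ centralizerIn S T) : T ≤ centralizerIn S P := by
  intro t ht
  refine Subgroup.mem_inf.mpr ⟨hTS ht, Subgroup.mem_centralizer_iff.mpr ?_⟩
  intro x hx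
  have h1 := (Subgroup.mem_inf.mp (hP hx)).2
  exact ((Subgroup.mem_centralizer_iff.mp h1) t ht).symm

/-- A map of `F` defined on a subgroup containing the strongly closed `T` maps `T` onto `T`. -/
theorem cfe_exactExt_surj_on [Finite S] (F : FusionSystem S) {T R : Subgroup Ω}
    (hT : F.StronglyClosed T) (hTR : T ≤ R) (ρ : R →* Ω) (hρ : ρ ∈ F.Hom R) (t' : Ω)
    (ht' : t' ∈ T) : ∃ t : T, ρ (Subgroup.inclusion hTR t) = t' := by
  have h1 := Fusion.restrict_mem F hρ hTR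
  have h2 := (Fusion.weaklyClosed_of_stronglyClosed F hT).2 _ h1
  have h3 : t' ∈ (ρ.comp (Subgroup.inclusion hTR)).range := by rw [h2]; exact ht'
  obtain ⟨t, ht⟩ := h3
  exact ⟨t, ht⟩

/-- A map of `F` defined on a subgroup `P` of `C_S(T)` (`T` strongly closed) with image in `C_S(T)` extends
EXACTLY to `P ⊔ T`. -/
theorem cfe_exact_ext [Finite S] (p : ℕ) [Fact p.Prime] (hS : IsPGroup p S) (F : FusionSystem S)
    (hF : F.IsSaturated p) {T : Subgroup Ω} (hT : F.StronglyClosed T) {P : Subgroup Ω}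
    (hP : P ≤ centralizerIn S T) (φ : P →* Ω) (hφ : φ ∈ F.Hom P)
    (hφC : ∀ x : P, φ x ∈ centralizerIn S T) :
    ∃ ψ ∈ F.Hom (P ⊔ T), ∀ x : P, ψ (Subgroup.inclusion le_sup_left x) = φ x := by
  have hTS : T ≤ S := hT.1
  have hPS : P ≤ S := Fusion.src_le F hφ
  have hP'S : φ.range ≤ S := Fusion.range_le F hφ
  have hP'C : φ.range ≤ centralizerIn S T := by
    rintro _ ⟨x, rfl⟩
    exact hφC x
  -- a receptive conjugate of `φ(P)`
  obtain ⟨Q, ⟨ψ₂, hψ₂, hr₂⟩, -, hQrec⟩ := hF φ.range hP'S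
  have hφP' : ∀ x : P, φ x ∈ φ.range := fun x => ⟨x, rfl⟩
  have hψ₁ : ψ₂.comp (φ.codRestrict φ.range hφP') ∈ F.Hom P := F.comp_mem hφ hψ₂ hφP'
  obtain ⟨ψ₁, hψ₁def⟩ : ∃ ψ₁ : P →* Ω, ψ₁ = ψ₂.comp (φ.codRestrict φ.range hφP') := ⟨_, rfl⟩
  rw [← hψ₁def] at hψ₁
  have hψ₁x : ∀ x : P, ψ₁ x = ψ₂ ⟨φ x, hφP' x⟩ := fun x => by rw [hψ₁def]; rfl
  have hr₁ : ψ₁.range = Q := by
    rw [← hr₂]
    ext y
    constructor
    · rintro ⟨x, rfl⟩
      rw [hψ₁x]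
      exact ⟨_, rfl⟩
    · rintro ⟨⟨_, x, rfl⟩, rfl⟩
      exact ⟨x, hψ₁x x⟩
  obtain ⟨χ₁, hχ₁, hext₁⟩ := hQrec.2 P ψ₁ hψ₁ hr₁
  obtain ⟨χ₂, hχ₂, hext₂⟩ := hQrec.2 φ.range ψ₂ hψ₂ hr₂
  have hle₁ : P ⊔ T ≤ extender S P ψ₁ :=
    sup_le (Fusion.le_extender P hPS ψ₁ (fun x => Fusion.map_mem F hψ₁ x))
      ((cfe_exactExt_le_centralizerIn hTS hP).trans (Fusion.centralizerIn_le_extender P ψ₁))
  have hle₂ : φ.range ⊔ T ≤ extender S φ.range ψ₂ :=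
    sup_le (Fusion.le_extender φ.range hP'S ψ₂ (fun x => Fusion.map_mem F hψ₂ x))
      ((cfe_exactExt_le_centralizerIn hTS hP'C).trans (Fusion.centralizerIn_le_extender φ.range ψ₂))
  have hρ₁ := Fusion.restrict_mem F hχ₁ hle₁
  have hρ₂ := Fusion.restrict_mem F hχ₂ hle₂
  obtain ⟨ρ₁, hρ₁def⟩ : ∃ ρ₁ : ↥(P ⊔ T) →* Ω, ρ₁ = χ₁.comp (Subgroup.inclusion hle₁) := ⟨_, rfl⟩
  obtain ⟨ρ₂, hρ₂def⟩ : ∃ ρ₂ : ↥(φ.range ⊔ T) →* Ω, ρ₂ = χ₂.comp (Subgroup.inclusion hle₂) :=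
    ⟨_, rfl⟩
  rw [← hρ₁def] at hρ₁
  rw [← hρ₂def] at hρ₂
  have hρ₁P : ∀ x : P, ρ₁ (Subgroup.inclusion le_sup_left x) = ψ₁ x := by
    intro x
    rw [hρ₁def]
    exact hext₁ x.1 x.2 (hle₁ (le_sup_left (a := P) x.2))
  have hρ₂P : ∀ y : φ.range, ρ₂ (Subgroup.inclusion le_sup_left y) = ψ₂ y := by
    intro y
    rw [hρ₂def]
    exact hext₂ y.1 y.2 (hle₂ (le_sup_left (a := φ.range) y.2))
  -- `ρ₁` takes values in the range of `ρ₂`
  have hval : ∀ y : ↥(P ⊔ T), ρ₁ y ∈ ρ₂.range := by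
    apply Fusion.sup_map_mem ρ₁
    · intro x
      rw [hρ₁P, hψ₁x, ← hρ₂P]
      exact ⟨_, rfl⟩
    · intro t
      have h1 : ρ₁ (Subgroup.inclusion le_sup_right t) ∈ T :=
        hT.2 T le_rfl _ (Fusion.restrict_mem F hρ₁ (le_sup_right : T ≤ P ⊔ T)) t
      obtain ⟨t₂, ht₂⟩ := cfe_exactExt_surj_on F hT (le_sup_right : T ≤ φ.range ⊔ T) ρ₂ hρ₂ _ h1
      exact ⟨_, ht₂⟩
  obtain ⟨ψinv, hψinv, hinv, -⟩ := Fusion.exists_inv F hρ₂ rfl
  refine ⟨ψinv.comp (ρ₁.codRestrict ρ₂.range hval), F.comp_mem hρ₁ hψinv hval, ?_⟩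
  intro x
  show ψinv ⟨ρ₁ (Subgroup.inclusion le_sup_left x), hval _⟩ = φ x
  have h1 : ρ₁ (Subgroup.inclusion le_sup_left x) =
      ρ₂ (Subgroup.inclusion le_sup_left (⟨φ x, hφP' x⟩ : φ.range)) := by
    rw [hρ₁P, hψ₁x, ← hρ₂P]
  have h2 := hinv (Subgroup.inclusion le_sup_left (⟨φ x, hφP' x⟩ : φ.range)) ⟨_, rfl⟩
  have h3 : (⟨ρ₁ (Subgroup.inclusion le_sup_left x), hval _⟩ : ρ₂.range) =
      ⟨ρ₂ (Subgroup.inclusion le_sup_left (⟨φ x, hφP' x⟩ : φ.range)), ⟨_, rfl⟩⟩ :=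
    Subtype.ext h1
  rw [h3, h2]
  rfl

/-- A strongly closed subgroup is receptive, and every automorphism of it extends over its centralizer. -/
theorem cfe_aut_extend [Finite S] (p : ℕ) [Fact p.Prime] (hS : IsPGroup p S) (F : FusionSystem S)
    (hF : F.IsSaturated p) {Y : Subgroup Ω} (hY : F.StronglyClosed Y) (α : MulAut Y)
    (hα : α ∈ F.autGroup Y) :
    ∃ β ∈ F.autGroup (Y ⊔ centralizerIn S Y),
      ∀ y : Y, ((β (Subgroup.inclusion le_sup_left y) : ↥(Y ⊔ centralizerIn S Y)) : Ω) =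
        ((α y : Y) : Ω) := by
  have hfc := Cfsg.Agent.OLV.olv_fullyCentralized_of_stronglyClosed F hY
  have hrec := Fusion.receptive_of_fullyCentralized p hS F hF hfc
  exact PStab.exists_aut_sup_centralizerIn_extension F hrec α hα

/-- A strongly closed subgroup is receptive. -/
theorem cfe_exactExt_receptive [Finite S] (p : ℕ) [Fact p.Prime] (hS : IsPGroup p S)
    (F : FusionSystem S) (hF : F.IsSaturated p) {Y : Subgroup Ω} (hY : F.StronglyClosed Y) :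
    F.IsReceptive Y :=
  Fusion.receptive_of_fullyCentralized p hS F hF
    (Cfsg.Agent.OLV.olv_fullyCentralized_of_stronglyClosed F hY)

end Cfsg.Agent.CFE
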