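import Mathlib
import Cfsg.Prelude.Def_FusionComponents
import Cfsg.Agent.CFE.ExactExt
import Cfsg.Agent.WNE.ResInvA
import Cfsg.Agent.WNE.Inv
import Cfsg.Agent.Lead.FusionRestrict
import Cfsg.Agent.Lead.FusionExt
import Cfsg.Agent.Lead.FusionWeak
import Cfsg.Agent.Lead.FusionStab

set_option autoImplicit false

/-!
# S5155, piece P2a: the Frattini clause for the restriction of `C_F(T)` to `Y`

`T` strongly closed in the saturated system `F`, `CC = C_F(T)`, `Y ≤ C_S(T)` strongly closed in `F`.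
Every map `φ` of `F` with source `P ≤ Y` is `α ∘ φ₀` with `α ∈ Aut_F(Y)` and `φ₀` a map of `CC`:
`φ` extends exactly to `ψ` on `P T` (`cfe_exact_ext`), `γ := ψ|T ∈ Aut_F(T)` extends to
`A ∈ Aut_F(T C_S(T))` (`wne_aut_ext`), which normalizes `Y`; `α := A|Y`, and `A⁻¹ ψ` is the identity on `T`.
-/

namespace Cfsg.Agent.CFE

open Cfsg Cfsg.FusionSystem Cfsg.Agent.Lead Cfsg.Agent.Lead.StrongInv

variable {Ω : Type*} [Group Ω] {S : Subgroup Ω}

theorem cfe_stronglyClosed_centSys (F : FusionSystem S) {T Y : Subgroup Ω}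
    (CC : FusionSystem (centralizerIn S T)) (hCC : F.IsCentralizerSystem T CC)
    (hY : F.StronglyClosed Y) (hYC : Y ≤ centralizerIn S T) : CC.StronglyClosed Y := by
  refine ⟨hYC, fun R hR φ hφ x => ?_⟩
  rw [hCC R] at hφ
  exact hY.2 R hR φ hφ.1 x

/-- P2a: Frattini clause. -/
theorem cfe_res_frattini [Finite S] (p : ℕ) [Fact p.Prime] (hS : IsPGroup p S) (F : FusionSystem S)
    (hF : F.IsSaturated p) {T Y : Subgroup Ω} (hT : F.StronglyClosed T)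
    (CC : FusionSystem (centralizerIn S T)) (hCC : F.IsCentralizerSystem T CC)
    (hY : F.StronglyClosed Y) (hYC : Y ≤ centralizerIn S T) (hY' : CC.StronglyClosed Y)
    (P : Subgroup Ω) (hPY : P ≤ Y) (φ : P →* Ω) (hφ : φ ∈ F.Hom P) :
    ∃ α ∈ F.autGroup Y, ∃ φ₀ ∈ (Cfsg.Agent.WNE.wneRes CC hY').Hom P,
      ∀ (x : P) (hx : φ₀ x ∈ Y), φ x = ((α ⟨φ₀ x, hx⟩ : Y) : Ω) := by
  have hTS : T ≤ S := hT.1
  have hYS : Y ≤ S := hY.1
  have hPC : P ≤ centralizerIn S T := hPY.trans hYC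
  have hfinY : Finite Y := Fusion.finite_of_le hYS
  have hle : T ⊔ centralizerIn S T ≤ S := sup_le hTS inf_le_left
  have hYle : Y ≤ T ⊔ centralizerIn S T := hYC.trans le_sup_right
  have hφY : ∀ x : P, φ x ∈ Y := fun x => hY.2 P hPY φ hφ x
  -- exact extension to `P ⊔ T`
  obtain ⟨ψ, hψ, hψP⟩ := cfe_exact_ext p hS F hF hT hPC φ hφ (fun x => hYC (hφY x))
  -- its restriction to `T` is an automorphism
  have hres := Fusion.restrict_mem F hψ (le_sup_right : T ≤ P ⊔ T)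
  have hr : (ψ.comp (Subgroup.inclusion (le_sup_right : T ≤ P ⊔ T))).range = T :=
    (Fusion.weaklyClosed_of_stronglyClosed F hT).2 _ hres
  obtain ⟨γ, hγ, hγv⟩ := Fusion.exists_aut_of_range_eq F hres hr
  -- extend to `T C_S(T)`
  obtain ⟨A, hA, hAv⟩ := Cfsg.Agent.WNE.wne_aut_ext p F hF hT γ hγ
  have hA' : A⁻¹ ∈ F.autGroup (T ⊔ centralizerIn S T) := Subgroup.inv_mem _ hA
  -- `A` normalizes `Y`
  have hAY : ∀ z : ↥(T ⊔ centralizerIn S T), (z : Ω) ∈ Y →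
      ((A z : ↥(T ⊔ centralizerIn S T)) : Ω) ∈ Y :=
    fun z hz => Fusion.aut_mem_of_stronglyClosed F hle hY A hA z hz
  have hA'Y : ∀ z : ↥(T ⊔ centralizerIn S T), (z : Ω) ∈ Y →
      ((A⁻¹ z : ↥(T ⊔ centralizerIn S T)) : Ω) ∈ Y :=
    fun z hz => Fusion.aut_mem_of_stronglyClosed F hle hY A⁻¹ hA' z hz
  obtain ⟨α, hα, hαv⟩ := Fusion.exists_restrict_aut F hle hYle A hA hAY
  have hα' : α⁻¹ ∈ F.autGroup Y := Subgroup.inv_mem _ hα
  -- `α⁻¹` is the restriction of `A⁻¹`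
  have hαinv : ∀ y : Y, ((α⁻¹ y : Y) : Ω) = ((A⁻¹ ⟨y, hYle y.2⟩ : ↥(T ⊔ centralizerIn S T)) : Ω) := by
    intro y
    have h1 := hαv (α⁻¹ y)
    rw [MulAut.apply_inv_self] at h1
    have h2 : A ⟨((α⁻¹ y : Y) : Ω), hYle (α⁻¹ y).2⟩ = ⟨y, hYle y.2⟩ := Subtype.ext h1.symm
    rw [← h2, MulAut.inv_apply_self]
  -- the values of `ψ` lie in `T C_S(T)`
  have hval : ∀ z : ↥(P ⊔ T), ψ z ∈ T ⊔ centralizerIn S T := by
    intro z
    apply Fusion.sup_map_mem ψ (T ⊔ centralizerIn S T)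
    · intro x
      rw [hψP x]
      exact hYle (hφY x)
    · intro t
      have := hγv t
      have h1 : ψ (Subgroup.inclusion le_sup_right t) = ((γ t : T) : Ω) := (hγv t).symm
      rw [h1]
      exact (le_sup_left : T ≤ T ⊔ centralizerIn S T) (γ t).2
  -- the map `φ₀ = α⁻¹ φ`
  have hαhom : Y.subtype.comp (α⁻¹ : MulAut Y).toMonoidHom ∈ F.Hom Y :=
    (Fusion.mem_autGroup_iff F hYS α⁻¹).mp hα'
  have hφ₀F := F.comp_mem hφ hαhom hφY
  have hAhom : (T ⊔ centralizerIn S T).subtype.comp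
      (A⁻¹ : MulAut ↥(T ⊔ centralizerIn S T)).toMonoidHom ∈ F.Hom (T ⊔ centralizerIn S T) :=
    (Fusion.mem_autGroup_iff F hle A⁻¹).mp hA'
  have hΨ := F.comp_mem hψ hAhom hval
  refine ⟨α, hα, (Y.subtype.comp (α⁻¹ : MulAut Y).toMonoidHom).comp (φ.codRestrict Y hφY),
    ⟨?_, hPY⟩, ?_⟩
  · rw [hCC P]
    refine ⟨hφ₀F, hPC, ?_, ((T ⊔ centralizerIn S T).subtype.comp
      (A⁻¹ : MulAut ↥(T ⊔ centralizerIn S T)).toMonoidHom).comp
        (ψ.codRestrict (T ⊔ centralizerIn S T) hval), hΨ, ?_, ?_⟩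
    · intro x
      exact hYC (α⁻¹ ⟨φ x, hφY x⟩).2
    · intro x
      show ((A⁻¹ ⟨ψ (Subgroup.inclusion le_sup_left x), hval _⟩ : ↥(T ⊔ centralizerIn S T)) : Ω) =
        ((α⁻¹ ⟨φ x, hφY x⟩ : Y) : Ω)
      rw [hαinv]
      congr 2
      exact Subtype.ext (hψP x)
    · intro t
      show ((A⁻¹ ⟨ψ (Subgroup.inclusion le_sup_right t), hval _⟩ : ↥(T ⊔ centralizerIn S T)) : Ω) =
        (t : Ω)
      have h1 : (⟨ψ (Subgroup.inclusion le_sup_right t), hval _⟩ : ↥(T ⊔ centralizerIn S T)) =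
          A (Subgroup.inclusion le_sup_left t) := by
        apply Subtype.ext
        rw [hAv t]
        exact (hγv t).symm
      rw [h1, MulAut.inv_apply_self]
      rfl
  · intro x hx
    show φ x = ((α ⟨((α⁻¹ ⟨φ x, hφY x⟩ : Y) : Ω), hx⟩ : Y) : Ω)
    have h1 : (⟨((α⁻¹ ⟨φ x, hφY x⟩ : Y) : Ω), hx⟩ : Y) = α⁻¹ ⟨φ x, hφY x⟩ := rfl
    rw [h1, MulAut.apply_inv_self]

end Cfsg.Agent.CFE
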