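import Mathlib
import Cfsg.Prelude.Def_FusionComponents
import Cfsg.Agent.Lead.Fusion
import Cfsg.Agent.Lead.FusionAut
import Cfsg.Agent.Lead.FusionConj
import Cfsg.Agent.Lead.FusionInvariant
import Cfsg.Agent.Lead.FusionExtT
import Cfsg.Agent.WNE.ResInvA
import Cfsg.Agent.CFE.ExactExt
import Cfsg.Agent.Lead.FusionStrongInvA

/-!
S5155 (`notes/S5155_lead.md`), piece P2b (helper8): the restriction `wneRes CC hY'` of `CC = C_F(T)` to the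
strongly closed subgroup `Y ≤ C_S(T)` is stable under `Aut_F(Y)`.

`α ∈ Aut_F(Y)` extends to `β ∈ Aut_F(Y C_S(Y))` (`cfe_aut_extend`), and `T ≤ C_S(Y)`, `β(T) = T`.  A map `φ` of `CC` on
`P ≤ Y` extends to `ψ` on `P ⊔ T`, trivial on `T`; then `β ψ β⁻¹` is defined on `α(P) ⊔ T`, is trivial on `T`, and
restricts to `α φ α⁻¹` on `α(P)`.
-/

set_option autoImplicit false

namespace Cfsg.Agent.CFE

open Cfsg Cfsg.FusionSystem Cfsg.Agent.Lead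

variable {Ω : Type*} [Group Ω] {S : Subgroup Ω}

/-- Conjugating a map of `F` (source `P ≤ R`, values in `R`) by an element `β` of `Aut_F(R)` gives a map of `F`
on `β(P)`. -/
theorem cfe_stab_conj (F : FusionSystem S) {R P : Subgroup Ω} (hRS : R ≤ S) (hPR : P ≤ R)
    (β : MulAut R) (hβ : β ∈ F.autGroup R) (φ : P →* Ω) (hφ : φ ∈ F.Hom P)
    (hφR : ∀ x : P, φ x ∈ R) :
    ∃ χ ∈ F.Hom ((P.subgroupOf R).map (R.subtype.comp β.toMonoidHom)),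
      ∀ (x : P)
        (hx : ((β ⟨x, hPR x.2⟩ : R) : Ω) ∈ (P.subgroupOf R).map (R.subtype.comp β.toMonoidHom)),
        χ ⟨((β ⟨x, hPR x.2⟩ : R) : Ω), hx⟩ = ((β ⟨φ x, hφR x⟩ : R) : Ω) := by
  have hb : R.subtype.comp β.toMonoidHom ∈ F.Hom R := (Fusion.mem_autGroup_iff F hRS β).mp hβ
  -- the restriction of `β` to `P`
  have hbP := Fusion.restrict_mem F hb hPR
  have hr : ((R.subtype.comp β.toMonoidHom).comp (Subgroup.inclusion hPR)).range =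
      (P.subgroupOf R).map (R.subtype.comp β.toMonoidHom) := by
    ext z
    constructor
    · rintro ⟨x, rfl⟩
      exact ⟨Subgroup.inclusion hPR x, Subgroup.mem_subgroupOf.mpr x.2, rfl⟩
    · rintro ⟨r, hr, rfl⟩
      exact ⟨⟨r.1, Subgroup.mem_subgroupOf.mp hr⟩, rfl⟩
  obtain ⟨ι, hι, hιinv, -⟩ := Fusion.exists_inv F hbP hr
  -- `ι` takes values in `P`
  have hιP : ∀ z : ↥((P.subgroupOf R).map (R.subtype.comp β.toMonoidHom)), ι z ∈ P := by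
    rintro ⟨_, r, hr, rfl⟩
    have h1 := hιinv ⟨r.1, Subgroup.mem_subgroupOf.mp hr⟩ ⟨r, hr, rfl⟩
    have h2 : ι ⟨(R.subtype.comp β.toMonoidHom) r, ⟨r, hr, rfl⟩⟩ = (r : Ω) := h1
    rw [h2]
    exact Subgroup.mem_subgroupOf.mp hr
  have h1 := F.comp_mem hι hφ hιP
  have h1R : ∀ z : ↥((P.subgroupOf R).map (R.subtype.comp β.toMonoidHom)),
      (φ.comp (ι.codRestrict P hιP)) z ∈ R := fun z => hφR _
  have h2 := F.comp_mem h1 hb h1R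
  refine ⟨_, h2, fun x hx => ?_⟩
  have h3 : ι ⟨((β ⟨x, hPR x.2⟩ : R) : Ω), hx⟩ = (x : Ω) := hιinv x hx
  show ((β ⟨φ ((ι.codRestrict P hιP) ⟨((β ⟨x, hPR x.2⟩ : R) : Ω), hx⟩), _⟩ : R) : Ω) =
    ((β ⟨φ x, hφR x⟩ : R) : Ω)
  have h4 : (ι.codRestrict P hιP) ⟨((β ⟨x, hPR x.2⟩ : R) : Ω), hx⟩ = x := Subtype.ext h3
  congr 3
  rw [h4]

/-- The core of P2b, for any `R ⊇ Y, T` and any extension `β ∈ Aut_F(R)` of `α`. -/
theorem cfe_stab_aux [Finite S] (F : FusionSystem S) {T Y R : Subgroup Ω} (hT : F.StronglyClosed T)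
    (CC : FusionSystem (centralizerIn S T)) (hCC : F.IsCentralizerSystem T CC)
    (hY : F.StronglyClosed Y) (hYC : Y ≤ centralizerIn S T) (hY' : CC.StronglyClosed Y)
    (hRS : R ≤ S) (hYR : Y ≤ R) (hTR : T ≤ R)
    (P : Subgroup Ω) (hPY : P ≤ Y) (φ : P →* Ω) (hφ : φ ∈ (Cfsg.Agent.WNE.wneRes CC hY').Hom P)
    (α : MulAut Y) (β : MulAut R) (hβ : β ∈ F.autGroup R)
    (hβα : ∀ y : Y, ((β (Subgroup.inclusion hYR y) : R) : Ω) = ((α y : Y) : Ω)) :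
    ∃ χ ∈ (Cfsg.Agent.WNE.wneRes CC hY').Hom ((P.subgroupOf Y).map (Y.subtype.comp α.toMonoidHom)),
      ∀ (x : P) (hφx : φ x ∈ Y)
        (hαx : ((α ⟨x, hPY x.2⟩ : Y) : Ω) ∈ (P.subgroupOf Y).map (Y.subtype.comp α.toMonoidHom)),
        χ ⟨(α ⟨x, hPY x.2⟩ : Y), hαx⟩ = ((α ⟨φ x, hφx⟩ : Y) : Ω) := by
  -- unpack `φ`
  obtain ⟨hφCC, -⟩ := (Cfsg.Agent.WNE.mem_wneRes CC hY' φ).mp hφ
  rw [hCC P] at hφCC
  obtain ⟨hφF, hPC, hφC, ψ, hψ, hψP, hψT⟩ := hφCC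
  have hPTR : P ⊔ T ≤ R := sup_le (hPY.trans hYR) hTR
  have hb : R.subtype.comp β.toMonoidHom ∈ F.Hom R := (Fusion.mem_autGroup_iff F hRS β).mp hβ
  -- `ψ` takes values in `R`
  have hψR : ∀ z : ↥(P ⊔ T), ψ z ∈ R := by
    have htop : (P.subgroupOf (P ⊔ T)) ⊔ (T.subgroupOf (P ⊔ T)) = ⊤ :=
      (Subgroup.codisjoint_subgroupOf_sup P T).eq_top
    have hle : (P.subgroupOf (P ⊔ T)) ⊔ (T.subgroupOf (P ⊔ T)) ≤ R.comap ψ := by
      refine sup_le ?_ ?_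
      · intro z hz
        have hzP : (z : Ω) ∈ P := Subgroup.mem_subgroupOf.mp hz
        have h1 := hψP ⟨z, hzP⟩
        have h2 : Subgroup.inclusion le_sup_left (⟨z, hzP⟩ : P) = z := Subtype.ext rfl
        rw [h2] at h1
        show ψ z ∈ R
        rw [h1]
        exact hYR (Fusion.map_mem_of_stronglyClosed F hY hφF ⟨z, hzP⟩ (hPY hzP))
      · intro z hz
        have hzT : (z : Ω) ∈ T := Subgroup.mem_subgroupOf.mp hz
        have h1 := hψT ⟨z, hzT⟩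
        have h2 : Subgroup.inclusion le_sup_right (⟨z, hzT⟩ : T) = z := Subtype.ext rfl
        rw [h2] at h1
        show ψ z ∈ R
        rw [h1]
        exact hTR hzT
    intro z
    have : z ∈ (⊤ : Subgroup ↥(P ⊔ T)) := Subgroup.mem_top z
    rw [← htop] at this
    exact hle this
  obtain ⟨χ', hχ', hχ'v⟩ := cfe_stab_conj F hRS hPTR β hβ ψ hψ hψR
  have hP'Y : (P.subgroupOf Y).map (Y.subtype.comp α.toMonoidHom) ≤ Y := by
    rintro _ ⟨y, -, rfl⟩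
    exact (α y).2
  -- `P' ⊔ T ≤ M`
  have hP'M : (P.subgroupOf Y).map (Y.subtype.comp α.toMonoidHom) ≤
      ((P ⊔ T).subgroupOf R).map (R.subtype.comp β.toMonoidHom) := by
    rintro _ ⟨y, hy, rfl⟩
    have hyP : (y : Ω) ∈ P := Subgroup.mem_subgroupOf.mp hy
    refine ⟨Subgroup.inclusion hYR y, ?_, ?_⟩
    · exact Subgroup.mem_subgroupOf.mpr ((le_sup_left : P ≤ P ⊔ T) hyP)
    · exact hβα y
  have hTM : T ≤ ((P ⊔ T).subgroupOf R).map (R.subtype.comp β.toMonoidHom) := by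
    intro t ht
    obtain ⟨t', ht'⟩ := cfe_exactExt_surj_on F hT hTR _ hb t ht
    refine ⟨Subgroup.inclusion hTR t', ?_, ht'⟩
    exact Subgroup.mem_subgroupOf.mpr ((le_sup_right : T ≤ P ⊔ T) t'.2)
  have hP'TM : (P.subgroupOf Y).map (Y.subtype.comp α.toMonoidHom) ⊔ T ≤
      ((P ⊔ T).subgroupOf R).map (R.subtype.comp β.toMonoidHom) := sup_le hP'M hTM
  have hψ' := Fusion.restrict_mem F hχ' hP'TM
  have hχ := Fusion.restrict_mem F hψ'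
    (le_sup_left : (P.subgroupOf Y).map (Y.subtype.comp α.toMonoidHom) ≤ _ ⊔ T)
  -- the value of `χ'` at `α x`
  have hval : ∀ (x : P)
      (hm : ((α ⟨x, hPY x.2⟩ : Y) : Ω) ∈ ((P ⊔ T).subgroupOf R).map (R.subtype.comp β.toMonoidHom)),
      χ' ⟨((α ⟨x, hPY x.2⟩ : Y) : Ω), hm⟩ =
        ((α ⟨φ x, Fusion.map_mem_of_stronglyClosed F hY hφF x (hPY x.2)⟩ : Y) : Ω) := by
    intro x hm
    have hxPT : (x : Ω) ∈ P ⊔ T := (le_sup_left : P ≤ P ⊔ T) x.2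
    have h1 : ((β ⟨x, hPTR hxPT⟩ : R) : Ω) = ((α ⟨x, hPY x.2⟩ : Y) : Ω) := hβα ⟨x, hPY x.2⟩
    have hm' : ((β ⟨((⟨x, hxPT⟩ : ↥(P ⊔ T)) : Ω), hPTR hxPT⟩ : R) : Ω) ∈
        ((P ⊔ T).subgroupOf R).map (R.subtype.comp β.toMonoidHom) := by
      rw [h1]; exact hm
    have h2 := hχ'v ⟨x, hxPT⟩ hm'
    have h3 : ψ ⟨x, hxPT⟩ = φ x := hψP x
    have hφY : φ x ∈ Y := Fusion.map_mem_of_stronglyClosed F hY hφF x (hPY x.2)
    have h4 : ((β ⟨ψ ⟨x, hxPT⟩, hψR ⟨x, hxPT⟩⟩ : R) : Ω) = ((α ⟨φ x, hφY⟩ : Y) : Ω) := by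
      have h5 := hβα ⟨φ x, hφY⟩
      rw [← h5]
      have h6 : (⟨ψ ⟨x, hxPT⟩, hψR ⟨x, hxPT⟩⟩ : R) = Subgroup.inclusion hYR ⟨φ x, hφY⟩ :=
        Subtype.ext h3
      rw [h6]
    rw [← h4, ← h2]
    exact Cfsg.Agent.Lead.StrongInv.app_congr χ' _ _ h1.symm
  refine ⟨(χ'.comp (Subgroup.inclusion hP'TM)).comp (Subgroup.inclusion le_sup_left),
    (Cfsg.Agent.WNE.mem_wneRes CC hY' _).mpr ⟨?_, hP'Y⟩, ?_⟩
  · rw [hCC _]
    refine ⟨hχ, hP'Y.trans hYC, fun z => hYC ?_, _, hψ', fun z => rfl, fun t => ?_⟩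
    · exact Fusion.map_mem_of_stronglyClosed F hY hχ z (hP'Y z.2)
    · -- `ψ'` fixes `T`
      obtain ⟨t', ht'⟩ := cfe_exactExt_surj_on F hT hTR _ hb t t.2
      have ht'PT : (t' : Ω) ∈ P ⊔ T := (le_sup_right : T ≤ P ⊔ T) t'.2
      have h1 : ((β ⟨t', hPTR ht'PT⟩ : R) : Ω) = (t : Ω) := ht'
      have hm' : ((β ⟨((⟨t', ht'PT⟩ : ↥(P ⊔ T)) : Ω), hPTR ht'PT⟩ : R) : Ω) ∈
          ((P ⊔ T).subgroupOf R).map (R.subtype.comp β.toMonoidHom) := by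
        rw [h1]; exact hTM t.2
      have h2 := hχ'v ⟨t', ht'PT⟩ hm'
      have h3 : ψ ⟨t', ht'PT⟩ = (t' : Ω) := hψT t'
      have h4 : ((β ⟨ψ ⟨t', ht'PT⟩, hψR ⟨t', ht'PT⟩⟩ : R) : Ω) = (t : Ω) := by
        rw [← h1]
        have h6 : (⟨ψ ⟨t', ht'PT⟩, hψR ⟨t', ht'PT⟩⟩ : R) = ⟨t', hPTR ht'PT⟩ := Subtype.ext h3
        rw [h6]
      show χ' ⟨(t : Ω), _⟩ = (t : Ω)
      refine Eq.trans ?_ (h2.trans h4)
      exact Cfsg.Agent.Lead.StrongInv.app_congr χ' _ _ h1.symm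
  · intro x hφx hαx
    show χ' ⟨((α ⟨x, hPY x.2⟩ : Y) : Ω), _⟩ = ((α ⟨φ x, hφx⟩ : Y) : Ω)
    exact hval x (hP'M hαx)

/-- P2b: stability of `wneRes CC hY'` under `Aut_F(Y)`. -/
theorem cfe_res_stable [Finite S] (p : ℕ) [Fact p.Prime] (hS : IsPGroup p S) (F : FusionSystem S)
    (hF : F.IsSaturated p) {T Y : Subgroup Ω} (hT : F.StronglyClosed T)
    (CC : FusionSystem (centralizerIn S T)) (hCC : F.IsCentralizerSystem T CC)
    (hY : F.StronglyClosed Y) (hYC : Y ≤ centralizerIn S T) (hY' : CC.StronglyClosed Y)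
    (P : Subgroup Ω) (hPY : P ≤ Y) (φ : P →* Ω) (hφ : φ ∈ (Cfsg.Agent.WNE.wneRes CC hY').Hom P)
    (α : MulAut Y) (hα : α ∈ F.autGroup Y) :
    ∃ χ ∈ (Cfsg.Agent.WNE.wneRes CC hY').Hom ((P.subgroupOf Y).map (Y.subtype.comp α.toMonoidHom)),
      ∀ (x : P) (hφx : φ x ∈ Y)
        (hαx : ((α ⟨x, hPY x.2⟩ : Y) : Ω) ∈ (P.subgroupOf Y).map (Y.subtype.comp α.toMonoidHom)),
        χ ⟨(α ⟨x, hPY x.2⟩ : Y), hαx⟩ = ((α ⟨φ x, hφx⟩ : Y) : Ω) := by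
  obtain ⟨β, hβ, hβα⟩ := cfe_aut_extend p hS F hF hY α hα
  exact cfe_stab_aux F hT CC hCC hY hYC hY' (sup_le hY.1 inf_le_left) le_sup_left
    ((cfe_exactExt_le_centralizerIn hT.1 hYC).trans le_sup_right) P hPY φ hφ α β hβ hβα

end Cfsg.Agent.CFE
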