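import Mathlib
import Cfsg.Prelude.Def_FusionComponents
import Cfsg.Agent.WNE.ResInvA
import Cfsg.Agent.CFE.Frat
import Cfsg.Agent.CFE.Stab

/-!
S5155 (`notes/S5155_lead.md`), step 2 (lead): the restriction of the centralizer system `C_F(T)` to a strongly closed
subgroup `Y ≤ C_S(T)` is invariant in `F` (assembly of the Frattini clause P2a and the stability clause P2b).
-/

set_option autoImplicit false

namespace Cfsg.Agent.CFE

open Cfsg Cfsg.FusionSystem Cfsg.Agent.Lead

variable {Ω : Type*} [Group Ω] {S : Subgroup Ω}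

theorem cfe_res_isInvariantIn [Finite S] (p : ℕ) [Fact p.Prime] (hS : IsPGroup p S) (F : FusionSystem S)
    (hF : F.IsSaturated p) {T Y : Subgroup Ω} (hT : F.StronglyClosed T)
    (CC : FusionSystem (centralizerIn S T)) (hCC : F.IsCentralizerSystem T CC)
    (hY : F.StronglyClosed Y) (hYC : Y ≤ centralizerIn S T) (hY' : CC.StronglyClosed Y) :
    (Cfsg.Agent.WNE.wneRes CC hY').IsInvariantIn F := by
  refine ⟨?_, hY, ?_, ?_⟩
  · intro P φ hφ
    have h1 : φ ∈ CC.Hom P := hφ.1
    rw [hCC P] at h1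
    exact h1.1
  · intro P hPY φ hφ α hα
    exact cfe_res_stable p hS F hF hT CC hCC hY hYC hY' P hPY φ hφ α hα
  · intro P hPY φ hφ
    exact cfe_res_frattini p hS F hF hT CC hCC hY hYC hY' P hPY φ hφ

end Cfsg.Agent.CFE
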