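import Mathlib
import Cfsg.Prelude.Def_FusionReduction
import Cfsg.Agent.RSL.Basic
import Cfsg.Agent.RSL.PPowInv
import Cfsg.Agent.Lead.FusionPResidual
import Cfsg.Agent.Helper4.FusTrE

set_option autoImplicit false

/-!
# S5155, piece P3: a saturated subsystem of `p`-power index over the same subgroup `Y` of a system
`F'` over `Y` invariant in `Fa` is stable under `Aut_{Fa}(Y)` (no saturation of `F'` needed)
-/

namespace Cfsg.Agent.CFE

open Cfsg Cfsg.FusionSystem Cfsg.Agent.Lead Cfsg.Agent.Lead.StrongInv Cfsg.Agent.Helper4.FusTr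

variable {Ω : Type*} [Group Ω]

theorem cfe_ppower_stable {S₀ Y : Subgroup Ω} [Finite S₀] (p : ℕ) [Fact p.Prime]
    (hS₀ : IsPGroup p S₀) (Fa : FusionSystem S₀)
    (F' : FusionSystem Y) (hF'inv : F'.IsInvariantIn Fa)
    (F₁ : FusionSystem Y) (hF₁s : F₁.IsSaturated p) (hidx : F₁.HasPPowerIndexIn F' p) :
    Cfsg.Agent.RSL.rslStable Fa Y F₁ := by
  have hYS₀ : Y ≤ S₀ := hF'inv.2.1.1
  have : Finite Y := Fusion.finite_of_le hYS₀
  have hY : IsPGroup p Y := hS₀.to_le hYS₀
  intro α hα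
  have hF' : Img (W := Y) (W' := Y) α F' F' := Img.of_invariant hF'inv α hα
  have h1 : Img (W := Y) (W' := Y) α F₁ (imgFS (W := Y) (W' := Y) α F₁ le_rfl) :=
    imgFS_img (W := Y) (W' := Y) α F₁ le_rfl
  have hmap : mapS (W := Y) (W' := Y) α Y = Y := mapS_self (W := Y) (W' := Y) α
  have hsat' := h1.isSaturated p hY hF₁s
  have hidx' : (imgFS (W := Y) (W' := Y) α F₁ le_rfl).HasPPowerIndexIn F' p := by
    refine ⟨h1.isSubsystemOf hF' hidx.1, ?_, ?_⟩
    · rw [hmap]
      exact Fusion.hyperfocal_le F' p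
    · intro P' hP'
      rw [Subgroup.map_le_iff_le_comap]
      unfold pResidual
      rw [Subgroup.closure_le]
      rintro ⟨g, hg⟩ hgc
      show g ∈ (imgFS (W := Y) (W' := Y) α F₁ le_rfl).autGroup P'
      have hgc' : (orderOf g).Coprime p := by
        have : orderOf (⟨g, hg⟩ : ↥(F'.autGroup P')) = orderOf g := Subgroup.orderOf_mk g hg
        rw [← this]
        exact hgc
      have hP'Y : P' ≤ Y := hP'.trans (mapS_le (W := Y) (W' := Y) α Y)
      have hPY : mapS (W := Y) (W' := Y) (α.symm) P' ≤ Y := h1.le_of_le hP'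
      have hP'eq : P' = mapS (W := Y) (W' := Y) α (mapS (W := Y) (W' := Y) α.symm P') :=
        (mapS_mapS_symm (W := Y) (W' := Y) α hP'Y).symm
      have hrel := autRel_congr_symm (W := Y) (W' := Y) (e := α) hPY hP'eq g
      have hγF' := (hF'.autGroup_iff hPY hP'eq hrel).mpr hg
      have hord : orderOf (MulAut.congr (pe (W := Y) (W' := Y) α hPY hP'eq).symm g) = orderOf g :=
        MulEquiv.orderOf_eq _ g
      have hγF₁ : MulAut.congr (pe (W := Y) (W' := Y) α hPY hP'eq).symm g ∈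
          F₁.autGroup (mapS (W := Y) (W' := Y) α.symm P') := by
        apply hidx.2.2 _ hPY
        refine ⟨⟨_, hγF'⟩, ?_, rfl⟩
        apply mem_pResidual_of_coprime'
        rw [Subgroup.orderOf_mk, hord]
        exact hgc'
      exact (h1.autGroup_iff hPY hP'eq hrel).mp hγF₁
  have hhom := Fusion.ppower_index_unique p hY F' hmap
    (imgFS (W := Y) (W' := Y) α F₁ le_rfl) F₁ hsat' hF₁s hidx' hidx
  refine ⟨le_rfl, hmap.symm, fun {P P' φ φ'} hPT hi => ?_⟩
  rw [← hhom P']
  exact h1.iff' hPT hi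

end Cfsg.Agent.CFE
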