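import Mathlib
import Cfsg.Prelude.Def_FusionComponents
import Cfsg.Agent.RSL.Trans
import Cfsg.Agent.WNE.ResInvA
import Cfsg.Agent.Helper6.PPowNormD
import Cfsg.Agent.Lead.FusionKNorm6
import Cfsg.Agent.OLV.ELe
import Cfsg.Agent.CFE.Restr
import Cfsg.Agent.CFE.Stable

/-!
S5155 (`notes/S5155_lead.md`), step 3 (lead): a saturated subsystem `D` of `p`-power index of `C_F(T)` over a subgroup
`Y ≤ C_S(T)` strongly closed in `F` is invariant in `F`.

`D` is normal in `C_F(T)` (`isNormalIn_of_ppower`), hence invariant in the restriction `CY` of `C_F(T)` to `Y`; `CY` is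
invariant in `F` (`cfe_res_isInvariantIn`); `D` is stable under `Aut_F(Y)` (`cfe_ppower_stable`); then
`rsl_invariant_trans`.
-/

set_option autoImplicit false

namespace Cfsg.Agent.CFE

open Cfsg Cfsg.FusionSystem Cfsg.Agent.Lead Cfsg.Agent.WNE Cfsg.Agent.OLV

variable {Ω : Type*} [Group Ω] {S : Subgroup Ω}

theorem cfe_pResidual_map_congr {Γ : Type*} [Group Γ] (p : ℕ) {A B : Subgroup Γ} (h : A = B) :
    (pResidual p A).map A.subtype = (pResidual p B).map B.subtype := by
  subst h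
  rfl

/-- On subgroups of `Y` the restricted system has the same automorphism groups. -/
theorem cfe_res_autGroup {C Y : Subgroup Ω} (CC : FusionSystem C) (hY' : CC.StronglyClosed Y)
    {P : Subgroup Ω} (hP : P ≤ Y) : (wneRes CC hY').autGroup P = CC.autGroup P := by
  unfold FusionSystem.autGroup
  congr 1
  ext α
  exact ⟨fun h => h.1, fun h => ⟨h, hP⟩⟩

theorem cfe_isInvariantIn [Finite S] (p : ℕ) [Fact p.Prime] (hS : IsPGroup p S) (F : FusionSystem S)
    (hF : F.IsSaturated p) {T Y : Subgroup Ω} (hT : F.StronglyClosed T)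
    (CC : FusionSystem (centralizerIn S T)) (hCC : F.IsCentralizerSystem T CC)
    (hY : F.StronglyClosed Y) (hYC : Y ≤ centralizerIn S T)
    (D : FusionSystem Y) (hDs : D.IsSaturated p) (hidx : D.HasPPowerIndexIn CC p) :
    D.IsInvariantIn F := by
  have hCS : centralizerIn S T ≤ S := inf_le_left
  have : Finite ↥(centralizerIn S T) := Fusion.finite_of_le hCS
  have hC : IsPGroup p ↥(centralizerIn S T) := hS.to_le hCS
  have hCCs : CC.IsSaturated p :=
    Fusion.centralizerSystem_isSaturated p hS F hF T (olv_fullyCentralized_of_stronglyClosed F hT) CC hCC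
  have hY' : CC.StronglyClosed Y := cfe_stronglyClosed_centSys F CC hCC hY hYC
  have hTn : ∀ s ∈ centralizerIn S T, ∀ t ∈ Y, s * t * s⁻¹ ∈ Y := by
    intro s hs t ht
    have h := F.conj_mem (P := Y) (g := s) hY.1 (hCS hs)
    exact hY.2 Y le_rfl _ h ⟨t, ht⟩
  have hDn : D.IsNormalIn CC p :=
    Cfsg.Agent.Helper6.PPowNorm.isNormalIn_of_ppower p hC CC hCCs D hDs hidx hTn
  obtain ⟨h1, h2, h3, h4⟩ := hDn.1.2.2
  have hCYinv : (wneRes CC hY').IsInvariantIn F :=
    cfe_res_isInvariantIn p hS F hF hT CC hCC hY hYC hY'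
  have hsubCY : D.IsSubsystemOf (wneRes CC hY') := le_wneRes CC hY' D h1
  have hDinvCY : D.IsInvariantIn (wneRes CC hY') := by
    refine ⟨hsubCY, ⟨le_rfl, fun R hR φ hφ x => h2.2 R hR φ hφ.1 x⟩, ?_, ?_⟩
    · intro P hPY φ hφ α hα
      rw [cfe_res_autGroup CC hY' le_rfl] at hα
      exact h3 P hPY φ hφ α hα
    · intro P hPY φ hφ
      obtain ⟨α, hα, φ₀, hφ₀, hv⟩ := h4 P hPY φ hφ.1
      refine ⟨α, ?_, φ₀, hφ₀, hv⟩
      rw [cfe_res_autGroup CC hY' le_rfl]
      exact hα
  have hidxCY : D.HasPPowerIndexIn (wneRes CC hY') p := by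
    refine ⟨hsubCY, Fusion.hyperfocal_le _ p, fun P hP => ?_⟩
    rw [cfe_pResidual_map_congr p (cfe_res_autGroup CC hY' hP)]
    exact hidx.2.2 P hP
  have hst := cfe_ppower_stable p hS F (wneRes CC hY') hCYinv D hDs hidxCY
  exact Cfsg.Agent.RSL.rsl_invariant_trans p hS F hF (wneRes CC hY') hCYinv D hDinvCY hst

end Cfsg.Agent.CFE
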