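import Mathlib
import Cfsg.Prelude.Def_FusionComponents
import Cfsg.Agent.Helper6.PpiH
import Cfsg.Agent.Helper2.PPrimeResC
import Cfsg.Agent.S5141
import Cfsg.Agent.CFE.Inv

/-!
S5155 (`notes/S5155_lead.md`), the general theorem (lead): `F` saturated over `S`, `T` strongly closed in `F`,
`CC = C_F(T)`, `Y ≤ C_S(T)` strongly closed in `F` and containing the hyperfocal subgroup of `CC`. Then some subsystem over
`Y` is normal in `F` and consists of maps of `C_F(T)`: the `p'`-residual of the saturated subsystem of `p`-power index of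
`CC` over `Y` (weakly normal by `cfe_isInvariantIn`, then normal by S5141).
-/

set_option autoImplicit false

namespace Cfsg.Agent.CFE

open Cfsg Cfsg.FusionSystem Cfsg.Agent.Lead Cfsg.Agent.OLV

variable {Ω : Type*} [Group Ω] {S : Subgroup Ω}

theorem cfe_hyperfocal_le_focal (F : FusionSystem S) (p : ℕ) :
    F.hyperfocalSubgroup p ≤ F.focalSubgroup := by
  unfold hyperfocalSubgroup focalSubgroup
  apply Subgroup.closure_mono
  rintro _ ⟨P, α, x, hP, -, rfl⟩
  exact ⟨P, P.subtype.comp (α : MulAut P).toMonoidHom, x,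
    (Fusion.mem_autGroup_iff F hP _).mp α.2, rfl⟩

theorem cfe_main [Finite S] (p : ℕ) [Fact p.Prime] (hS : IsPGroup p S) (F : FusionSystem S)
    (hF : F.IsSaturated p) {T Y : Subgroup Ω} (hT : F.StronglyClosed T)
    (CC : FusionSystem (centralizerIn S T)) (hCC : F.IsCentralizerSystem T CC)
    (hY : F.StronglyClosed Y) (hYC : Y ≤ centralizerIn S T)
    (hhyp : CC.hyperfocalSubgroup p ≤ Y) :
    ∃ D : FusionSystem Y, D.IsNormalIn F p ∧ ∀ P : Subgroup Ω, D.Hom P ⊆ F.centralizerHom T P := by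
  have hCS : centralizerIn S T ≤ S := inf_le_left
  have : Finite ↥(centralizerIn S T) := Fusion.finite_of_le hCS
  have hC : IsPGroup p ↥(centralizerIn S T) := hS.to_le hCS
  have hCCs : CC.IsSaturated p :=
    Fusion.centralizerSystem_isSaturated p hS F hF T (olv_fullyCentralized_of_stronglyClosed F hT) CC hCC
  have hYS : Y ≤ S := hY.1
  have : Finite Y := Fusion.finite_of_le hYS
  have hYp : IsPGroup p Y := hS.to_le hYS
  obtain ⟨D0, ⟨hD0s, hD0idx⟩, -⟩ :=
    Cfsg.Agent.Helper6.Ppi.existsUnique_ppower p hC CC hCCs Y hYC hhyp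
  have hD0inv := cfe_isInvariantIn p hS F hF hT CC hCC hY hYC D0 hD0s hD0idx
  have hD0w : D0.IsWeaklyNormalIn F p := ⟨hD0s, hF, hD0inv⟩
  obtain ⟨D, hD⟩ := Cfsg.Agent.Helper2.PPrimeRes.exists_isPPrimeResidual p hYp D0 hD0s
  refine ⟨D, Cfsg.Agent.S5141.result p hS F hF D0 hD0w D hD, fun P φ hφ => ?_⟩
  have h1 : φ ∈ D0.Hom P := hD.2.1.1 P hφ
  have h2 : φ ∈ CC.Hom P := hD0idx.1 P h1
  rwa [hCC P] at h2

end Cfsg.Agent.CFE
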